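import Cfsg.Agent.ChevalleyStructure.SL2Hom

/-!
# `SL₂(q³)` and a new prime (helper385; S3509, row `³D₄(q)`, box T4)

* `exists_prime` : for `2 ≤ q` some prime `t ∣ q² + q + 1` does not divide `q² - 1` (and not `q`);
* `range_le` : a subgroup containing all `ψ (h (up c) h⁻¹)`, `c ≠ 0`, contains `ψ (SL₂(F))`;
* `ncl_sl2` : if `|F| = q³`, `y` commutes with `ψ (SL₂(F))` and the subgroup `L` contains all conjugates of `ψ (up c) * y`,
  `c ≠ 0`, under `ψ (SL₂(F))`, then `ψ (SL₂(F)) ≤ L`, and it contains an element of prime order `t` as above.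
-/

set_option autoImplicit false

namespace Cfsg.Agent.H385.TD

open Cfsg.Agent.ChevalleyStructure Cfsg.Agent.ChevalleyStructure.SL2Hom

theorem exists_prime {q : ℕ} (hq : 2 ≤ q) :
    ∃ t : ℕ, t.Prime ∧ t ∣ q ^ 2 + q + 1 ∧ ¬ t ∣ q ∧ ¬ t ∣ q ^ 2 - 1 := by
  by_contra hcon
  push Not at hcon
  have h1 : ∀ t : ℕ, t.Prime → t ∣ q ^ 2 + q + 1 → t = 3 := by
    intro t ht htq
    have h2 : ¬ t ∣ q := fun h => by
      have h3 : t ∣ q ^ 2 + q := Dvd.dvd.add (Dvd.dvd.pow h (by norm_num)) h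
      have h4 : t ∣ 1 := (Nat.dvd_add_right h3).1 htq
      exact ht.one_lt.ne' (Nat.dvd_one.1 h4)
    have h3 := hcon t ht htq h2
    obtain ⟨k, rfl⟩ : ∃ k, q = k + 1 := ⟨q - 1, by omega⟩
    have h4 : (k + 1) ^ 2 - 1 = k * (k + 2) := by
      have : (k + 1) ^ 2 = k * (k + 2) + 1 := by ring
      omega
    rw [h4] at h3
    rcases (Nat.Prime.dvd_mul ht).1 h3 with h5 | h5
    · have h6 : (k + 1) ^ 2 + (k + 1) + 1 = k * (k + 3) + 3 := by ring
      rw [h6] at htq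
      have h7 : t ∣ 3 := (Nat.dvd_add_right (Dvd.dvd.mul_right h5 _)).1 htq
      exact (Nat.prime_dvd_prime_iff_eq ht Nat.prime_three).1 h7
    · have h6 : (k + 1) ^ 2 + (k + 1) + 1 = (k + 2) * (k + 1) + 1 := by ring
      rw [h6] at htq
      have h7 : t ∣ 1 := (Nat.dvd_add_right (Dvd.dvd.mul_right h5 _)).1 htq
      exact absurd (Nat.dvd_one.1 h7) ht.one_lt.ne'
  have h2 : ∀ t : ℕ, t.Prime → t ∣ q ^ 2 + q + 1 → t = 3 := h1
  have h3 : q ^ 2 + q + 1 = 3 ^ (q ^ 2 + q + 1).primeFactorsList.length :=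
    Nat.eq_prime_pow_of_unique_prime_dvd (by positivity) fun {d} hd hdq => h2 d hd hdq
  have h9 : ¬ 9 ∣ q ^ 2 + q + 1 := by
    intro h
    have h4 : (q ^ 2 + q + 1) % 9 = 0 := Nat.mod_eq_zero_of_dvd h
    have h5 : q % 9 < 9 := Nat.mod_lt _ (by norm_num)
    rw [Nat.add_mod, Nat.add_mod (q ^ 2), Nat.pow_mod] at h4
    interval_cases h6 : q % 9 <;> simp at h4
  generalize (q ^ 2 + q + 1).primeFactorsList.length = n at h3
  rcases Nat.lt_or_ge n 2 with h | h
  · interval_cases n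
    · nlinarith
    · nlinarith
  · obtain ⟨k, rfl⟩ := Nat.exists_eq_add_of_le h
    exact h9 (h3 ▸ ⟨3 ^ k, by rw [pow_add]; norm_num⟩)

section sl

variable {F : Type*} [Field F]

/-- `diag(a, a⁻¹)` -/
def dg (a : F) (ha : a ≠ 0) : Matrix.SpecialLinearGroup (Fin 2) F :=
  ⟨!![a, 0; 0, a⁻¹], by simp [ha]⟩

/-- the Weyl element -/
def wl : Matrix.SpecialLinearGroup (Fin 2) F := ⟨!![0, 1; -1, 0], by simp⟩

theorem up_mul (s t : F) : up s * up t = up (s + t) := by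
  apply Subtype.ext
  show (up s).1 * (up t).1 = (up (s + t)).1
  ext i j
  fin_cases i <;> fin_cases j <;> simp [up, Matrix.mul_apply, Fin.sum_univ_two, add_comm]

theorem up_zero : up (0 : F) = 1 := by
  apply Subtype.ext
  show (up (0 : F)).1 = (1 : Matrix (Fin 2) (Fin 2) F)
  ext i j
  fin_cases i <;> fin_cases j <;> simp [up]

theorem up_neg (s : F) : (up s)⁻¹ = up (-s) := by
  rw [inv_eq_iff_mul_eq_one, up_mul, add_neg_cancel, up_zero]

theorem dg_up {a : F} (ha : a ≠ 0) (s : F) : dg a ha * up s * (dg a ha)⁻¹ = up (a ^ 2 * s) := by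
  rw [mul_inv_eq_iff_eq_mul]
  apply Subtype.ext
  show (dg a ha).1 * (up s).1 = (up (a ^ 2 * s)).1 * (dg a ha).1
  ext i j
  fin_cases i <;> fin_cases j <;> simp [up, dg, Matrix.mul_apply, Fin.sum_univ_two]
  field_simp

theorem wl_up (s : F) : wl * up (-s) * (wl : Matrix.SpecialLinearGroup (Fin 2) F)⁻¹ = lo s := by
  rw [mul_inv_eq_iff_eq_mul]
  apply Subtype.ext
  show (wl).1 * (up (-s)).1 = (lo s).1 * (wl : Matrix.SpecialLinearGroup (Fin 2) F).1
  ext i j
  fin_cases i <;> fin_cases j <;> simp [up, lo, wl, Matrix.mul_apply, Fin.sum_univ_two]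

theorem dg_pow {a : F} (ha : a ≠ 0) (n : ℕ) : dg a ha ^ n = dg (a ^ n) (pow_ne_zero n ha) := by
  induction n with
  | zero =>
    apply Subtype.ext
    show (1 : Matrix (Fin 2) (Fin 2) F) = _
    ext i j
    fin_cases i <;> fin_cases j <;> simp [dg]
  | succ n ih =>
    rw [pow_succ, ih]
    apply Subtype.ext
    show (dg (a ^ n) _).1 * (dg a ha).1 = (dg (a ^ (n + 1)) _).1
    ext i j
    fin_cases i <;> fin_cases j <;> simp [dg, Matrix.mul_apply, Fin.sum_univ_two, pow_succ, mul_comm]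

theorem dg_one {a : F} (ha : a ≠ 0) (h : a = 1) : dg a ha = 1 := by
  subst h
  apply Subtype.ext
  show _ = (1 : Matrix (Fin 2) (Fin 2) F)
  ext i j
  fin_cases i <;> fin_cases j <;> simp [dg]

/-- a normal subgroup containing a transvection is everything -/
theorem normal_eq_top [Finite F] (N : Subgroup (Matrix.SpecialLinearGroup (Fin 2) F)) [N.Normal] {c : F} (hc : c ≠ 0)
    (h : up c ∈ N) : N = ⊤ := by
  have h1 : ∀ a : F, up (a ^ 2 * c) ∈ N := by
    intro a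
    by_cases ha : a = 0
    · rw [ha, zero_pow (by norm_num), zero_mul, up_zero]
      exact N.one_mem
    · rw [← dg_up ha]
      exact Subgroup.Normal.conj_mem inferInstance _ h _
  have h2 : ∀ t : F, up t ∈ N := by
    intro t
    by_cases h2 : ringChar F = 2
    · obtain ⟨a, ha⟩ := FiniteField.isSquare_of_char_two h2 (t / c)
      have := h1 a
      rwa [pow_two, ← ha, div_mul_cancel₀ _ hc] at this
    · have h2' : (2 : F) ≠ 0 := Ring.two_ne_zero h2
      have h3 : up t = up (((t / c + 1) / 2) ^ 2 * c) * (up (((t / c - 1) / 2) ^ 2 * c))⁻¹ := by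
        rw [up_neg, up_mul]
        congr 1
        field_simp
        ring
      rw [h3]
      exact N.mul_mem (h1 _) (N.inv_mem (h1 _))
  rw [eq_top_iff]
  intro g _
  refine (Subgroup.closure_le N).2 ?_ (mem_closure_SL2 g)
  rintro x (⟨t, rfl⟩ | ⟨t, rfl⟩)
  · exact h2 t
  · rw [← wl_up]
    exact Subgroup.Normal.conj_mem inferInstance _ (h2 _) _

/-- a subgroup containing all `ψ (h (up c) h⁻¹)` contains everything -/
theorem range_le [Finite F] {Y : Type*} [Group Y] (ψ : Matrix.SpecialLinearGroup (Fin 2) F →* Y) {c : F} (hc : c ≠ 0)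
    (L : Subgroup Y) (hL : ∀ h, ψ (h * up c * h⁻¹) ∈ L) (g : Matrix.SpecialLinearGroup (Fin 2) F) : ψ g ∈ L := by
  have h1 : Subgroup.normalClosure {up c} ≤ L.comap ψ := by
    rw [Subgroup.normalClosure, Subgroup.closure_le]
    intro x hx
    obtain ⟨a, ha, b, hb⟩ := Group.mem_conjugatesOfSet_iff.1 hx
    rw [Set.mem_singleton_iff] at ha
    subst ha
    rw [SetLike.mem_coe, Subgroup.mem_comap]
    have h2 : x = (b : Matrix.SpecialLinearGroup (Fin 2) F) * up c * (b : Matrix.SpecialLinearGroup (Fin 2) F)⁻¹ :=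
      (mul_inv_eq_of_eq_mul hb).symm
    rw [h2]
    exact hL _
  have h3 := normal_eq_top (Subgroup.normalClosure {up c}) hc (Subgroup.subset_normalClosure rfl)
  exact h1 (h3 ▸ Subgroup.mem_top g)

/-- RESULT: the normal closure of `ψ (up c) * y`, and a new prime -/
theorem ncl_sl2 [Fintype F] {q : ℕ} (hq : 2 ≤ q) (hF : Fintype.card F = q ^ 3) {Y : Type*} [Group Y]
    (ψ : Matrix.SpecialLinearGroup (Fin 2) F →* Y) (hψ : ∀ c, ψ (up c) = 1 → c = 0) {c : F} (hc : c ≠ 0) {y : Y}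
    (hy : ∀ g, y * ψ g = ψ g * y) (L : Subgroup Y) (hL : ∀ h, ψ h * (ψ (up c) * y) * (ψ h)⁻¹ ∈ L) :
    (∀ g, ψ g ∈ L) ∧ ∃ t : ℕ, t.Prime ∧ t ∣ q ^ 2 + q + 1 ∧ ¬ t ∣ q ∧ ¬ t ∣ q ^ 2 - 1 ∧
      ∃ g, ψ g ∈ L ∧ ψ g ≠ 1 ∧ ψ g ^ t = 1 := by
  classical
  have h8 : 8 ≤ Fintype.card F := by
    rw [hF]
    calc 8 = 2 ^ 3 := by norm_num
      _ ≤ q ^ 3 := Nat.pow_le_pow_left hq 3
  obtain ⟨a, ha0, ha⟩ : ∃ a : F, a ≠ 0 ∧ a ^ 2 ≠ 1 := by
    by_contra hcon
    push Not at hcon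
    have h1 : (Finset.univ : Finset F) ⊆ {0, 1, -1} := by
      intro a _
      by_cases h : a = 0
      · simp [h]
      · have h5 : (a - 1) * (a + 1) = 0 := by linear_combination hcon a h
        rcases mul_eq_zero.1 h5 with h6 | h6
        · simp [sub_eq_zero.1 h6]
        · simp [eq_neg_of_add_eq_zero_left h6]
    have h2 := Finset.card_le_card h1
    have h3 := Finset.card_le_three (a := (0 : F)) (b := 1) (c := -1)
    rw [Finset.card_univ] at h2
    omega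
  have hall : ∀ g, ψ g ∈ L := by
    have hc' : a ^ 2 * c + -c ≠ 0 := by
      intro h
      apply ha
      have : (a ^ 2 - 1) * c = 0 := by rw [← h]; ring
      rcases mul_eq_zero.1 this with h | h
      · exact sub_eq_zero.1 h
      · exact absurd h hc
    refine range_le ψ hc' L fun h => ?_
    have h1 := L.mul_mem (hL (h * dg a ha0)) (L.inv_mem (hL h))
    have h2 : ψ (h * dg a ha0) * (ψ (up c) * y) * (ψ (h * dg a ha0))⁻¹ * (ψ h * (ψ (up c) * y) * (ψ h)⁻¹)⁻¹ =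
        ψ (h * up (a ^ 2 * c + -c) * h⁻¹) := by
      have h3 : ∀ g, ψ g * (ψ (up c) * y) * (ψ g)⁻¹ = ψ (g * up c * g⁻¹) * y := by
        intro g
        rw [map_mul, map_mul, ← map_inv ψ g, mul_assoc _ (ψ g⁻¹) y, ← hy g⁻¹]
        simp only [mul_assoc]
      have h5 : ∀ A B : Y, A * y * (B * y)⁻¹ = A * B⁻¹ := fun A B => by group
      rw [h3, h3, h5, ← map_inv, ← map_mul]
      congr 1
      have h4 := dg_up ha0 c
      calc h * dg a ha0 * up c * (h * dg a ha0)⁻¹ * (h * up c * h⁻¹)⁻¹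
          = h * (dg a ha0 * up c * (dg a ha0)⁻¹) * (up c)⁻¹ * h⁻¹ := by group
        _ = _ := by rw [h4, up_neg, mul_assoc h, up_mul]
    rwa [h2] at h1
  refine ⟨hall, ?_⟩
  obtain ⟨t, ht, htq, htq', htq2⟩ := exists_prime hq
  refine ⟨t, ht, htq, htq', htq2, ?_⟩
  have : Fact t.Prime := ⟨ht⟩
  have h1 : t ∣ Fintype.card Fˣ := by
    rw [Fintype.card_units, hF]
    obtain ⟨k, rfl⟩ : ∃ k, q = k + 1 := ⟨q - 1, by omega⟩
    have : (k + 1) ^ 3 - 1 = ((k + 1) ^ 2 + (k + 1) + 1) * k := by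
      have : (k + 1) ^ 3 = ((k + 1) ^ 2 + (k + 1) + 1) * k + 1 := by ring
      omega
    rw [this]
    exact Dvd.dvd.mul_right htq _
  obtain ⟨ζ, hζ⟩ := exists_prime_orderOf_dvd_card t h1
  have hζ0 : (ζ : F) ≠ 0 := ζ.ne_zero
  refine ⟨dg (ζ : F) hζ0, hall _, fun h => ?_, ?_⟩
  · have h2 : ψ (up ((ζ : F) ^ 2 * 1 + -1)) = 1 := by
      rw [← up_mul, ← dg_up hζ0, ← up_neg, map_mul, map_mul, map_mul, h, map_inv, h, one_mul, inv_one, mul_one,
        map_inv, mul_inv_cancel]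
    have h3 := hψ _ h2
    have h4 : ζ ^ 2 = 1 := by
      apply Units.ext
      rw [Units.val_pow_eq_pow_val, Units.val_one]
      rw [mul_one] at h3
      exact add_neg_eq_zero.1 h3
    have h5 : t ∣ 2 := hζ ▸ orderOf_dvd_of_pow_eq_one h4
    have h6 : t = 2 := (Nat.prime_dvd_prime_iff_eq ht Nat.prime_two).1 h5
    subst h6
    have h7 : ¬ 2 ∣ q ^ 2 + q + 1 := by
      have h8 : 2 ∣ q * (q + 1) := (Nat.even_mul_succ_self q).two_dvd
      have h9 : q ^ 2 + q + 1 = q * (q + 1) + 1 := by ring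
      omega
    exact h7 htq
  · rw [← map_pow, dg_pow, dg_one, map_one]
    rw [← Units.val_pow_eq_pow_val, ← hζ, pow_orderOf_eq_one, Units.val_one]

end sl

end Cfsg.Agent.H385.TD
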